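import Mathlib
import Cfsg.Agent.HW.E7T

/-! The tables for the cyclic tori of order `q ^ 7 - 1` and `q ^ 7 + 1` of `E₇(q)`. -/

set_option autoImplicit false

namespace Cfsg.Agent.HW

open Cfsg.Agent.Chev Cfsg.Lie Cfsg.Lie.ChevalleyDatum

def wrdP : List (Fin 7) := [0, 2, 3, 4, 5, 6]

def tbP : TorTab :=
  { V := [[0, 0, 1, 0, -1, 0, 0], [0, -1, 0, 1, 0, -1, 0], [0, -1, 0, 0, 1, 0, -1], [0, -1, 0, 0, 0, 1, 0], [-1, 0, 0,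
      0, 0, 0, 1], [0, 1, -1, 0, 0, 0, 0], [1, 1, 0, -1, 0, 0, 0], [0, 0, 1, 0, -1, 0, 0]]
    B := [[-1, 0, -1, 0, -1, -1, 0], [-1, -1, -1, -1, -1, -1, -1], [-1, -1, -1, -1, -1, -2, -1], [-2, -1, -2, -1, -2,
      -2, -2], [-2, -1, -1, -1, -1, -2, -1], [-1, -1, -1, 0, -1, -1, -1], [-1, 0, -1, 0, 0, -1, 0]]
    G := [[-2, 2, 0, 0, 0, 0, 0], [1, 1, 1, -1, -1, -1, -1], [0, -2, 2, 0, 0, 0, 0], [0, 0, -2, 2, 0, 0, 0], [0, 0, 0,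
      -2, 2, 0, 0], [0, 0, 0, 0, -2, 2, 0], [0, 0, 0, 0, 0, -2, 2]]
    p := [-1, 0, 0, 0, 0, 0, 0]
    g := [0, -1, 0, -2, -3, -2, -1]
    C := 0, m := 2, d := 2, a := 0, q0 := 0, q1 := 0 }

def u1P : List (List ℤ) :=
  [[0, 0, 1, 1, 0, 0, 0], [0, 1, 1, 0, 0, 0, 0], [1, 1, 0, 0, 0, 0, 0], [1, 0, 0, 0, 0, 0, 1], [0, 0, 0, 0, 0,
   1, 1], [0, 0, 0, 0, 1, 1, 0], [0, 0, 0, 1, 1, 0, 0], [0, -1, 0, 0, -1, -1, 0], [0, 4, 4, 0, -4, 0, 0], [0, 4,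
   4, 0, 0, 0, -4], [0, 0, -1, 0, 0, -1, -1], [0, 0, 0, -1, -1, -1, 0], [0, 1, 2, 1, 0, 0, 0], [0, 0, 4, 4, 0,
   -4, 0], [-1, -1, 0, 0, 0, 0, -1], [-4, 0, 4, 4, 0, 0, 0], [-1, 0, 0, -1, 0, 0, -1], [4, 0, 0, 0, -4, 0, 4],
   [2, 1, 0, 0, 0, 0, 1], [0, 0, 0, 0, -1, -1, -1], [0, 0, 0, 0, 1, 2, 1], [0, 0, 1, 2, 1, 0, 0], [0, 0, 0, 4, 4,
   0, -4], [0, -4, 0, 0, 0, 4, 4], [-1, -1, -1, 0, 0, 0, 0], [0, -4, 0, 4, 4, 0, 0], [-1, -1, 0, 0, -1, 0, 0],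
   [1, 3, 5, 0, -5, -3, -1], [0, 1, 2, 3, -3, -2, -1], [2, -2, 1, 4, 0, -4, -1], [-4, 0, 4, 1, -2, 2, -1], [-2,
   -3, 3, 2, 1, 0, -1], [-3, -5, 0, 5, 3, 1, -1], [-1, 0, 0, -1, -1, 0, 0], [4, 4, 0, -4, 0, 0, 0], [4, 4, 0, 0,
   0, -4, 0], [0, 0, -1, -1, -1, 0, 0], [1, 2, 1, 0, 0, 0, 0], [-1, 0, 0, 0, 0, -1, -1], [0, 0, 0, -4, 0, 4, 4],
   [1, 0, 0, 0, 0, 1, 2], [0, 0, 0, 1, 2, 1, 0], [-4, 0, 0, 0, 4, 4, 0], [0, 0, -1, -1, 0, 0, -1], [4, 0, -4, 0,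
   0, 0, 4], [0, -1, -1, -1, 0, 0, 0], [0, 0, -4, 0, 4, 4, 0], [0, -1, -1, 0, 0, -1, 0], [1, 2, 3, -3, -2, -1,
   0], [-2, 1, 4, 0, -4, -1, 2], [0, 4, 1, -2, 2, -1, -4], [-3, 3, 2, 1, 0, -1, -2], [-5, 0, 5, 3, 1, -1, -3],
   [1, 4, 0, -4, -1, 2, -2], [4, 1, -2, 2, -1, -4, 0], [3, 2, 1, 0, -1, -2, -3], [0, 5, 3, 1, -1, -3, -5], [1,
   -2, 2, -1, -4, 0, 4], [2, 1, 0, -1, -2, -3, 3], [5, 3, 1, -1, -3, -5, 0], [1, 0, -1, -2, -3, 3, 2], [3, 1, -1,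
   -3, -5, 0, 5], [1, -1, -3, -5, 0, 5, 3], [-1, 1, 3, 5, 0, -5, -3], [-3, -1, 1, 3, 5, 0, -5], [-1, 0, 1, 2, 3,
   -3, -2], [-5, -3, -1, 1, 3, 5, 0], [-2, -1, 0, 1, 2, 3, -3], [-1, 2, -2, 1, 4, 0, -4], [0, -5, -3, -1, 1, 3,
   5], [-3, -2, -1, 0, 1, 2, 3], [-4, -1, 2, -2, 1, 4, 0], [-1, -4, 0, 4, 1, -2, 2], [5, 0, -5, -3, -1, 1, 3],
   [3, -3, -2, -1, 0, 1, 2], [0, -4, -1, 2, -2, 1, 4], [2, -1, -4, 0, 4, 1, -2], [-1, -2, -3, 3, 2, 1, 0], [0, 1,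
   1, 0, 0, 1, 0], [0, 0, 4, 0, -4, -4, 0], [0, 1, 1, 1, 0, 0, 0], [-4, 0, 4, 0, 0, 0, -4], [0, 0, 1, 1, 0, 0,
   1], [4, 0, 0, 0, -4, -4, 0], [0, 0, 0, -1, -2, -1, 0], [-1, 0, 0, 0, 0, -1, -2], [0, 0, 0, 4, 0, -4, -4], [1,
   0, 0, 0, 0, 1, 1], [-1, -2, -1, 0, 0, 0, 0], [0, 0, 1, 1, 1, 0, 0], [-4, -4, 0, 0, 0, 4, 0], [-4, -4, 0, 4, 0,
   0, 0], [1, 0, 0, 1, 1, 0, 0], [3, 5, 0, -5, -3, -1, 1], [2, 3, -3, -2, -1, 0, 1], [4, 0, -4, -1, 2, -2, 1],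
   [-2, 2, -1, -4, 0, 4, 1], [0, -1, -2, -3, 3, 2, 1], [-1, -3, -5, 0, 5, 3, 1], [1, 1, 0, 0, 1, 0, 0], [0, 4, 0,
   -4, -4, 0, 0], [1, 1, 1, 0, 0, 0, 0], [0, 4, 0, 0, 0, -4, -4], [0, 0, 0, -4, -4, 0, 4], [0, 0, -1, -2, -1, 0,
   0], [0, 0, 0, 0, -1, -2, -1], [0, 0, 0, 0, 1, 1, 1], [-2, -1, 0, 0, 0, 0, -1], [-4, 0, 0, 0, 4, 0, -4], [1, 0,
   0, 1, 0, 0, 1], [4, 0, -4, -4, 0, 0, 0], [1, 1, 0, 0, 0, 0, 1], [0, 0, -4, -4, 0, 4, 0], [0, -1, -2, -1, 0, 0,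
   0], [0, 0, 0, 1, 1, 1, 0], [0, 0, 1, 0, 0, 1, 1], [0, -4, -4, 0, 0, 0, 4], [0, -4, -4, 0, 4, 0, 0], [0, 1, 0,
   0, 1, 1, 0], [0, 0, 0, -1, -1, 0, 0], [0, 0, 0, 0, -1, -1, 0], [0, 0, 0, 0, 0, -1, -1], [-1, 0, 0, 0, 0, 0,
   -1], [-1, -1, 0, 0, 0, 0, 0], [0, -1, -1, 0, 0, 0, 0], [0, 0, -1, -1, 0, 0, 0]]

def u2P : List (ℕ × List ℤ) :=
  [(1, [3, 5, 0, -5, -3, -1, 1]), (2, [2, 3, -3, -2, -1, 0, 1]), (3, [4, 0, -4, -1, 2, -2, 1]), (4, [-2, 2, -1,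
   -4, 0, 4, 1]), (5, [0, -1, -2, -3, 3, 2, 1]), (6, [-1, -3, -5, 0, 5, 3, 1]), (119, [0, 0, 0, -1, 0, 0, 0]),
   (120, [1, 0, -1, 0, 0, -1, 0]), (121, [1, 1, 0, -1, -1, -1, 0]), (122, [-1, -1, -1, 0, 1, 1, 0]), (123, [-1,
   0, 0, -1, 0, 1, 0]), (124, [0, 0, -1, 0, 0, 0, 0]), (125, [0, 0, -32, -32, 0, 0, 0])]

def wrdM : List (Fin 7) := [0, 1, 3, 2, 5, 4, 3, 2, 6]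

def tbM : TorTab :=
  { V := [[0, 0, 0, 0, 0, 0, 1], [0, 0, 0, 0, 1, -1, 0], [0, -1, 1, 0, 0, 0, 0], [-1, 0, 1, 0, 0, -1, 1], [0, -1, 0, 1,
      0, -1, 0], [-1, -1, 1, 0, 0, 0, 0], [0, 0, 0, 0, 0, -1, 1], [0, 0, 0, 0, 0, 0, -1]]
    B := [[0, 0, 1, 0, 0, -1, 0], [0, 0, 0, 1, 0, -1, -1], [0, 0, 1, 1, 0, -1, -1], [1, 0, 0, 1, 1, -1, -2], [1, 1, 0,
      0, 0, 0, -1], [1, 0, 0, 0, 0, 0, -1], [1, 0, 0, 0, 0, 0, 0]]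
    G := [[-1, 1, 0, 0, 0, 0, 0], [0, 0, 0, 1, 0, -1, 1], [0, -1, 1, 0, -1, 0, 0], [0, 0, -1, 0, 1, 0, -1], [0, 1, 0,
      -1, 0, 0, 1], [0, -1, 1, 0, 0, 1, -1], [1, 0, -1, 1, -1, 0, 1]]
    p := [1, 0, 0, 0, 0, 0, 0]
    g := [2, 3, 4, 6, 5, 4, 3]
    C := 0, m := 1, d := 2, a := 0, q0 := 0, q1 := 0 }

def u1M : List (List ℤ) :=
  [[1, -1, 0, 0, 0, 0, 1], [-1, 0, 0, 0, 0, 1, -1], [-1, -1, -4, 2, 0, -2, 4], [-1, 1, -1, 0, 0, 0, 0], [-4, -1,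
   -1, -4, 2, 0, -2], [-2, -1, -3, 0, 3, 1, 2], [0, -4, -4, 0, 0, 0, 4], [-1, -4, 2, 0, -2, 4, 1], [-4, -4, 0, 0,
   0, 4, 0], [0, 0, 0, 0, 1, -1, 1], [-1, -3, 0, 3, 1, 2, 2], [-2, -2, -1, -3, 0, 3, 1], [-4, 2, 0, -2, 4, 1, 1],
   [0, -4, 0, 0, 0, 4, 4], [-4, 0, 0, 0, 4, 4, 0], [-3, -5, -1, 0, 1, 5, 3], [2, 0, -2, 4, 1, 1, 4], [0, -1, 1,
   -1, 0, 0, 0], [-4, 0, -4, 0, 0, 0, 4], [-1, -2, -2, -1, -3, 0, 3], [-1, 0, -1, 0, 0, 0, 0], [0, -4, -4, 0, -4,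
   0, 0], [0, -1, 0, 0, 1, 0, 1], [-4, 0, -4, -4, 0, 0, 0], [2, -4, -1, -1, -4, 2, 0], [-3, -3, -5, -1, 0, 1, 5],
   [-1, 0, -2, 0, -1, 0, 0], [-1, 0, 0, 0, 0, 1, 0], [0, -1, 0, -1, 0, 0, 1], [0, 0, 0, 4, 0, 4, 4], [0, 0, 0, 1,
   0, 1, 0], [-1, 0, 0, 1, 0, 2, 0], [0, 0, -1, 0, -1, 0, 0], [-4, -4, 0, -4, 0, 0, 0], [-4, 0, 0, 0, 4, 0, 4],
   [0, -1, 0, 0, 0, 0, 1], [-5, -1, 0, 1, 5, 3, 3], [0, -2, 0, -1, 0, 0, 1], [0, 0, 0, 4, 4, 0, 4], [-1, 0, -1,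
   0, 0, 1, 0], [0, -1, 0, -1, 0, 0, 0], [0, 0, 0, 0, 1, 0, 1], [0, 0, 1, 0, 2, 0, 1], [-3, -1, -2, -2, -1, -3,
   0], [0, 0, -1, 1, -1, 0, 0], [-1, 0, -1, 0, -1, 0, 0], [0, -1, -5, -3, -3, -5, -1], [0, 0, -4, -4, 0, -4, 0],
   [-3, 0, 3, 1, 2, 2, 1], [-1, 0, 0, 1, 0, 1, 0], [0, 0, 0, 1, -1, 1, 0], [0, -2, 4, 1, 1, 4, -2], [0, 0, 4, 0,
   4, 4, 0], [-2, 0, -1, 0, 0, 1, 0], [-1, -5, -3, -3, -5, -1, 0], [-1, 0, 1, 5, 3, 3, 5], [0, 1, 0, 2, 0, 1, 0],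
   [-5, -3, -3, -5, -1, 0, 1], [0, -4, 0, -4, -4, 0, 0], [0, -1, 0, 0, 1, 0, 2], [0, -1, 0, -1, 0, -1, 0], [0,
   -3, -1, -2, -2, -1, -3], [0, 0, 1, 0, 1, 0, 1], [0, 0, -1, 0, -1, 0, -1], [0, 3, 1, 2, 2, 1, 3], [0, 1, 0, 1,
   0, 1, 0], [0, 1, 0, 0, -1, 0, -2], [0, 4, 0, 4, 4, 0, 0], [5, 3, 3, 5, 1, 0, -1], [0, -1, 0, -2, 0, -1, 0],
   [1, 0, -1, -5, -3, -3, -5], [1, 5, 3, 3, 5, 1, 0], [2, 0, 1, 0, 0, -1, 0], [0, 0, -4, 0, -4, -4, 0], [0, 2,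
   -4, -1, -1, -4, 2], [0, 0, 0, -1, 1, -1, 0], [1, 0, 0, -1, 0, -1, 0], [3, 0, -3, -1, -2, -2, -1], [0, 0, 4, 4,
   0, 4, 0], [0, 1, 5, 3, 3, 5, 1], [1, 0, 1, 0, 1, 0, 0], [0, 0, 1, -1, 1, 0, 0], [3, 1, 2, 2, 1, 3, 0], [0, 0,
   -1, 0, -2, 0, -1], [0, 0, 0, 0, -1, 0, -1], [0, 1, 0, 1, 0, 0, 0], [1, 0, 1, 0, 0, -1, 0], [0, 0, 0, -4, -4,
   0, -4], [0, 2, 0, 1, 0, 0, -1], [5, 1, 0, -1, -5, -3, -3], [0, 1, 0, 0, 0, 0, -1], [4, 0, 0, 0, -4, 0, -4],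
   [4, 4, 0, 4, 0, 0, 0], [0, 0, 1, 0, 1, 0, 0], [1, 0, 0, -1, 0, -2, 0], [0, 0, 0, -1, 0, -1, 0], [0, 0, 0, -4,
   0, -4, -4], [0, 1, 0, 1, 0, 0, -1], [1, 0, 0, 0, 0, -1, 0], [1, 0, 2, 0, 1, 0, 0], [3, 3, 5, 1, 0, -1, -5],
   [-2, 4, 1, 1, 4, -2, 0], [4, 0, 4, 4, 0, 0, 0], [0, 1, 0, 0, -1, 0, -1], [0, 4, 4, 0, 4, 0, 0], [1, 0, 1, 0,
   0, 0, 0], [1, 2, 2, 1, 3, 0, -3], [4, 0, 4, 0, 0, 0, -4], [0, 1, -1, 1, 0, 0, 0], [-2, 0, 2, -4, -1, -1, -4],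
   [3, 5, 1, 0, -1, -5, -3], [4, 0, 0, 0, -4, -4, 0], [0, 4, 0, 0, 0, -4, -4], [4, -2, 0, 2, -4, -1, -1], [2, 2,
   1, 3, 0, -3, -1], [1, 3, 0, -3, -1, -2, -2], [0, 0, 0, 0, -1, 1, -1], [4, 4, 0, 0, 0, -4, 0], [1, 4, -2, 0, 2,
   -4, -1], [0, 4, 4, 0, 0, 0, -4], [2, 1, 3, 0, -3, -1, -2], [4, 1, 1, 4, -2, 0, 2], [1, -1, 1, 0, 0, 0, 0], [1,
   1, 4, -2, 0, 2, -4], [1, 0, 0, 0, 0, -1, 1], [-1, 1, 0, 0, 0, 0, -1]]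

def u2M : List (ℕ × List ℤ) :=
  [(1, [0, 0, 1, 0, 1, 0, 0]), (3, [0, 0, 0, -1, 0, -1, 0]), (9, [-2, 4, 1, 1, 4, -2, 0]), (17, [-2, 0, 2, -4,
   -1, -1, -4]), (44, [0, 1, -1, 0, 1, -2, 1]), (50, [0, -1, 2, -1, 0, 1, -1]), (75, [-2, 1, 0, -1, 2, -3, -3]),
   (81, [-2, 3, 3, -2, 1, 0, -1]), (108, [0, 0, 0, 0, 1, -1, 0]), (116, [0, 0, 1, -1, 0, 0, 0]), (122, [-2, -2,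
   6, -3, 0, 3, -6]), (124, [-2, 6, -3, 0, 3, -6, 2]), (125, [-32, 32, 0, 0, 0, 0, -32])]

theorem ok1P : tbP.OK1 chevE7.rank (chevE7.lwL (wrdP.map Fin.val)) := by decide +kernel

theorem ok1M : tbM.OK1 chevE7.rank (chevE7.lwL (wrdM.map Fin.val)) := by decide +kernel

theorem ok7P : OK7 tbP 1 u1P u2P (chevE7.lwL (wrdP.map Fin.val)) := by decide +kernel

theorem ok7M : OK7 tbM (-1) u1M u2M (chevE7.lwL (wrdM.map Fin.val)) := by decide +kernel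

end Cfsg.Agent.HW
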