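import Mathlib
import Cfsg.Agent.C128.LiB

/-! Orders of small classical groups; none of them is `604800`. -/

set_option autoImplicit false

namespace Cfsg.Agent.HW

open Cfsg

variable {F : Type*} [Field F] [Fintype F] {q : ℕ}

theorem ord_l2 : Nat.gcd 2 (Fintype.card F - 1) * Nat.card (Matrix.ProjectiveSpecialLinearGroup (Fin 2) F) =
    Fintype.card F * (Fintype.card F ^ 2 - 1) := by
  simpa [Finset.sum_range_succ, Finset.prod_range_succ] using Chev.Ord.card_psl (F := F) 0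

theorem ord_l3 : Nat.gcd 3 (Fintype.card F - 1) * Nat.card (Matrix.ProjectiveSpecialLinearGroup (Fin 3) F) =
    Fintype.card F ^ 3 * ((Fintype.card F ^ 2 - 1) * (Fintype.card F ^ 3 - 1)) := by
  simpa [Finset.sum_range_succ, Finset.prod_range_succ] using Chev.Ord.card_psl (F := F) 1

theorem ord_l4 : Nat.gcd 4 (Fintype.card F - 1) * Nat.card (Matrix.ProjectiveSpecialLinearGroup (Fin 4) F) =
    Fintype.card F ^ 6 * ((Fintype.card F ^ 2 - 1) * (Fintype.card F ^ 3 - 1) * (Fintype.card F ^ 4 - 1)) := by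
  simpa [Finset.sum_range_succ, Finset.prod_range_succ] using Chev.Ord.card_psl (F := F) 2

theorem ord_l5 : Nat.gcd 5 (Fintype.card F - 1) * Nat.card (Matrix.ProjectiveSpecialLinearGroup (Fin 5) F) =
    Fintype.card F ^ 10 * ((Fintype.card F ^ 2 - 1) * (Fintype.card F ^ 3 - 1) * (Fintype.card F ^ 4 - 1) *
      (Fintype.card F ^ 5 - 1)) := by
  simpa [Finset.sum_range_succ, Finset.prod_range_succ] using Chev.Ord.card_psl (F := F) 3

theorem ord_u3 (h : Fintype.card F = q ^ 2) :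
    Nat.gcd 3 (q + 1) * Nat.card (PSU 3 F q) = q ^ 3 * ((q ^ 2 - 1) * (q ^ 3 + 1)) := by
  obtain ⟨σ, hσ⟩ := Cl.exists_uField h
  have h1 := hσ.card_PSU (n := 3) (by norm_num)
  refine Nat.eq_of_mul_eq_mul_left (show 0 < q + 1 by omega) ?_
  rw [mul_left_comm, h1]
  simp [Cl.uOrd, Finset.prod_range_succ, show ¬ Even 1 by decide, show Even 2 by decide]
  ring

theorem ord_u4 (h : Fintype.card F = q ^ 2) :
    Nat.gcd 4 (q + 1) * Nat.card (PSU 4 F q) = q ^ 6 * ((q ^ 2 - 1) * (q ^ 3 + 1) * (q ^ 4 - 1)) := by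
  obtain ⟨σ, hσ⟩ := Cl.exists_uField h
  have h1 := hσ.card_PSU (n := 4) (by norm_num)
  refine Nat.eq_of_mul_eq_mul_left (show 0 < q + 1 by omega) ?_
  rw [mul_left_comm, h1]
  simp [Cl.uOrd, Finset.prod_range_succ, show ¬ Even 1 by decide, show Even 2 by decide,
    show ¬ Even 3 by decide]
  ring

theorem ord_u5 (h : Fintype.card F = q ^ 2) :
    Nat.gcd 5 (q + 1) * Nat.card (PSU 5 F q) =
      q ^ 10 * ((q ^ 2 - 1) * (q ^ 3 + 1) * (q ^ 4 - 1) * (q ^ 5 + 1)) := by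
  obtain ⟨σ, hσ⟩ := Cl.exists_uField h
  have h1 := hσ.card_PSU (n := 5) (by norm_num)
  refine Nat.eq_of_mul_eq_mul_left (show 0 < q + 1 by omega) ?_
  rw [mul_left_comm, h1]
  simp [Cl.uOrd, Finset.prod_range_succ, show ¬ Even 1 by decide, show Even 2 by decide,
    show ¬ Even 3 by decide, show Even 4 by decide]
  ring

theorem ord_s4 : Nat.gcd 2 (Fintype.card F - 1) * Nat.card (PSp 2 F) =
    Fintype.card F ^ 4 * ((Fintype.card F ^ 2 - 1) * (Fintype.card F ^ 4 - 1)) := by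
  have h1 := Cl.Sm.card_psp_mul (F := F) (m := 2) (by norm_num)
  rw [Cl.sp_card_std, Nat.card_eq_fintype_card (α := F), mul_comm] at h1
  simpa [Finset.prod_range_succ] using h1

theorem lt_of {d k M B : ℕ} (h : d * 604800 = q ^ k * M) (hd0 : 0 < d) (hd : d ≤ 5)
    (hB : 3024000 < B ^ k) : q < B := by
  by_contra hc
  have h1 : q ^ k ≤ d * 604800 := Nat.le_of_dvd (by omega) ⟨M, h⟩
  have h2 := Nat.pow_le_pow_left (not_lt.1 hc) k
  omega

variable {G : Type*} [Group G]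

theorem ne_l2 (hc : Nat.card G = 604800) (e : G ≃* Matrix.ProjectiveSpecialLinearGroup (Fin 2) F) : False := by
  have h := ord_l2 (F := F)
  rw [← Nat.card_congr e.toEquiv, hc] at h
  generalize Fintype.card F = q at h
  have h1 : q < 110 := by
    by_contra hq
    have h2 : 110 ^ 2 ≤ q ^ 2 := Nat.pow_le_pow_left (not_lt.1 hq) 2
    have h3 : 110 * (110 ^ 2 - 1) ≤ q * (q ^ 2 - 1) := Nat.mul_le_mul (not_lt.1 hq) (by omega)
    have h4 : Nat.gcd 2 (q - 1) ≤ 2 := Nat.gcd_le_left _ two_pos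
    omega
  exact (by decide +kernel : ∀ q < 110, Nat.gcd 2 (q - 1) * 604800 ≠ q * (q ^ 2 - 1)) q h1 h

theorem ne_l3 (hc : Nat.card G = 604800) (e : G ≃* Matrix.ProjectiveSpecialLinearGroup (Fin 3) F) : False := by
  have h := ord_l3 (F := F)
  rw [← Nat.card_congr e.toEquiv, hc] at h
  exact (by decide +kernel : ∀ q < 150, Nat.gcd 3 (q - 1) * 604800 ≠ q ^ 3 * ((q ^ 2 - 1) * (q ^ 3 - 1))) _
    (lt_of h (Nat.gcd_pos_of_pos_left _ (by norm_num)) ((Nat.gcd_le_left _ (by norm_num)).trans (by norm_num))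
      (by norm_num)) h

theorem ne_l4 (hc : Nat.card G = 604800) (e : G ≃* Matrix.ProjectiveSpecialLinearGroup (Fin 4) F) : False := by
  have h := ord_l4 (F := F)
  rw [← Nat.card_congr e.toEquiv, hc] at h
  exact (by decide +kernel : ∀ q < 150, Nat.gcd 4 (q - 1) * 604800 ≠
      q ^ 6 * ((q ^ 2 - 1) * (q ^ 3 - 1) * (q ^ 4 - 1))) _
    (lt_of h (Nat.gcd_pos_of_pos_left _ (by norm_num)) ((Nat.gcd_le_left _ (by norm_num)).trans (by norm_num))
      (by norm_num)) h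

theorem ne_l5 (hc : Nat.card G = 604800) (e : G ≃* Matrix.ProjectiveSpecialLinearGroup (Fin 5) F) : False := by
  have h := ord_l5 (F := F)
  rw [← Nat.card_congr e.toEquiv, hc] at h
  exact (by decide +kernel : ∀ q < 150, Nat.gcd 5 (q - 1) * 604800 ≠
      q ^ 10 * ((q ^ 2 - 1) * (q ^ 3 - 1) * (q ^ 4 - 1) * (q ^ 5 - 1))) _
    (lt_of h (Nat.gcd_pos_of_pos_left _ (by norm_num)) ((Nat.gcd_le_left _ (by norm_num)).trans (by norm_num))
      (by norm_num)) h

theorem ne_u3 (hc : Nat.card G = 604800) (hq : Fintype.card F = q ^ 2) (e : G ≃* PSU 3 F q) : False := by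
  have h := ord_u3 hq
  rw [← Nat.card_congr e.toEquiv, hc] at h
  exact (by decide +kernel : ∀ q < 150, Nat.gcd 3 (q + 1) * 604800 ≠ q ^ 3 * ((q ^ 2 - 1) * (q ^ 3 + 1))) _
    (lt_of h (Nat.gcd_pos_of_pos_left _ (by norm_num)) ((Nat.gcd_le_left _ (by norm_num)).trans (by norm_num))
      (by norm_num)) h

theorem ne_u4 (hc : Nat.card G = 604800) (hq : Fintype.card F = q ^ 2) (e : G ≃* PSU 4 F q) : False := by
  have h := ord_u4 hq
  rw [← Nat.card_congr e.toEquiv, hc] at h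
  exact (by decide +kernel : ∀ q < 150, Nat.gcd 4 (q + 1) * 604800 ≠
      q ^ 6 * ((q ^ 2 - 1) * (q ^ 3 + 1) * (q ^ 4 - 1))) _
    (lt_of h (Nat.gcd_pos_of_pos_left _ (by norm_num)) ((Nat.gcd_le_left _ (by norm_num)).trans (by norm_num))
      (by norm_num)) h

theorem ne_u5 (hc : Nat.card G = 604800) (hq : Fintype.card F = q ^ 2) (e : G ≃* PSU 5 F q) : False := by
  have h := ord_u5 hq
  rw [← Nat.card_congr e.toEquiv, hc] at h
  exact (by decide +kernel : ∀ q < 150, Nat.gcd 5 (q + 1) * 604800 ≠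
      q ^ 10 * ((q ^ 2 - 1) * (q ^ 3 + 1) * (q ^ 4 - 1) * (q ^ 5 + 1))) _
    (lt_of h (Nat.gcd_pos_of_pos_left _ (by norm_num)) ((Nat.gcd_le_left _ (by norm_num)).trans (by norm_num))
      (by norm_num)) h

theorem ne_s4 (hc : Nat.card G = 604800) (e : G ≃* PSp 2 F) : False := by
  have h := ord_s4 (F := F)
  rw [← Nat.card_congr e.toEquiv, hc] at h
  exact (by decide +kernel : ∀ q < 150, Nat.gcd 2 (q - 1) * 604800 ≠ q ^ 4 * ((q ^ 2 - 1) * (q ^ 4 - 1))) _
    (lt_of h (Nat.gcd_pos_of_pos_left _ (by norm_num)) ((Nat.gcd_le_left _ (by norm_num)).trans (by norm_num))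
      (by norm_num)) h

theorem ne_g2 (hc : Nat.card G = 604800) (s : IsG2 G) : False := by
  obtain ⟨-, q, -, -, h⟩ := s
  rw [hc, ← one_mul 604800, mul_assoc] at h
  exact (by decide +kernel : ∀ q < 150, 1 * 604800 ≠ q ^ 6 * ((q ^ 6 - 1) * (q ^ 2 - 1))) _
    (lt_of h one_pos (by norm_num) (by norm_num)) h

theorem ne_3d4 (hc : Nat.card G = 604800) (s : Is3D4 G) : False := by
  obtain ⟨-, q, -, h⟩ := s
  rw [hc, ← one_mul 604800, mul_assoc, mul_assoc] at h
  exact (by decide +kernel : ∀ q < 150, 1 * 604800 ≠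
      q ^ 12 * ((q ^ 8 + q ^ 4 + 1) * ((q ^ 6 - 1) * (q ^ 2 - 1)))) _
    (lt_of h one_pos (by norm_num) (by norm_num)) h

theorem ne_ree (hc : Nat.card G = 604800) (s : IsRee G) : False := by
  obtain ⟨-, m, -, h⟩ := s
  rw [hc, ← one_mul 604800, mul_assoc] at h
  exact (by decide +kernel : ∀ q < 150, 1 * 604800 ≠ q ^ 3 * ((q ^ 3 + 1) * (q - 1))) _
    (lt_of h one_pos (by norm_num) (by norm_num)) h

theorem ne_suz (hc : Nat.card G = 604800) (s : IsSuzuki G) : False := by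
  obtain ⟨-, m, -, h⟩ := s
  rw [hc, ← one_mul 604800, mul_assoc] at h
  exact (by decide +kernel : ∀ q < 1800, 1 * 604800 ≠ q ^ 2 * ((q ^ 2 + 1) * (q - 1))) _
    (lt_of h one_pos (by norm_num) (by norm_num)) h

theorem ne_alt (hc : Nat.card G = 604800) {n : ℕ} (h7 : 7 ≤ n) (h11 : n ≤ 11)
    (e : G ≃* alternatingGroup (Fin n)) : False := by
  have h := C128.card_alt n (by omega)
  rw [← Nat.card_congr e.toEquiv, hc] at h
  interval_cases n <;> norm_num [Nat.factorial] at h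

end Cfsg.Agent.HW
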